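import Groth.Agent.Lib.QCoh.ClosedImmersion
import Groth.Agent.Lib.QCoh.Killed
import Groth.Agent.Lib.Cohom.Serre
import Groth.Prelude.Def_Dual3

/-! # The right adjoint of the direct image along a closed immersion on sections -/

set_option autoImplicit false
universe u

open CategoryTheory CategoryTheory.Limits Opposite AlgebraicGeometry TopologicalSpace

noncomputable section

namespace GrothLib.ClosedPush22

variable {X Z : Scheme.{u}} (f : Z ⟶ X) [IsClosedImmersion f]

/-- Kernel elements on stalks kill a module killed by the ideal (no quasi-coherence). -/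
theorem smul_eq_zero_of_killed (F : X.Modules) (hk : ClSub.KilledByIdeal f.ker F) (y : Z)
    (r : X.presheaf.stalk (f y)) (hr : (f.stalkMap y).hom r = 0) (m : F.presheaf.stalk (f y)) : r • m = 0 := by
  obtain ⟨V₀, hyV₀, z₀, hz₀⟩ := OX.germ_exists F.val m
  obtain ⟨V, hVA, hyV, hVV₀⟩ := Opens.isBasis_iff_nbhd.1 X.isBasis_affineOpens hyV₀
  let z : Γ(F, V) := F.presheaf.map (homOfLE hVV₀).op z₀
  have hz : F.presheaf.germ V (f y) hyV z = m :=
    (TopCat.Presheaf.germ_res_apply _ _ _ _ _).trans hz₀
  let algX : Algebra Γ(X, V) (X.presheaf.stalk (f y)) :=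
    TopCat.Presheaf.algebra_section_stalk X.presheaf (⟨f y, hyV⟩ : V)
  have hlocX : IsLocalization.AtPrime (X.presheaf.stalk (f y))
      (hVA.primeIdealOf ⟨f y, hyV⟩).asIdeal := hVA.isLocalization_stalk ⟨f y, hyV⟩
  have hW : IsAffineOpen (f ⁻¹ᵁ V) := hVA.preimage f
  let algZ : Algebra Γ(Z, f ⁻¹ᵁ V) (Z.presheaf.stalk y) :=
    TopCat.Presheaf.algebra_section_stalk Z.presheaf (⟨y, hyV⟩ : (f ⁻¹ᵁ V : Z.Opens))
  have hlocZ : IsLocalization.AtPrime (Z.presheaf.stalk y)
      (hW.primeIdealOf ⟨y, hyV⟩).asIdeal := hW.isLocalization_stalk ⟨y, hyV⟩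
  obtain ⟨a, s, rfl⟩ := IsLocalization.exists_mk'_eq
    (hVA.primeIdealOf ⟨f y, hyV⟩).asIdeal.primeCompl r
  have ha0 : (f.stalkMap y).hom (X.presheaf.germ V _ hyV a) = 0 := by
    have := congrArg (f.stalkMap y).hom
      (IsLocalization.mk'_spec (X.presheaf.stalk (f y)) a s)
    rw [map_mul, hr, zero_mul] at this
    exact this.symm
  have ha : Z.presheaf.germ (f ⁻¹ᵁ V) y hyV (f.app V a) = 0 := by
    rw [← Scheme.Hom.germ_stalkMap_apply]
    exact ha0
  obtain ⟨⟨t, ht⟩, hta⟩ := (IsLocalization.map_eq_zero_iff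
    (hW.primeIdealOf ⟨y, hyV⟩).asIdeal.primeCompl (Z.presheaf.stalk y) (f.app V a)).mp ha
  obtain ⟨t', rfl⟩ := f.app_surjective V hVA t
  have hmem : t' * a ∈ f.ker.ideal ⟨V, hVA⟩ := by
    rw [Scheme.Hom.ker_apply, RingHom.mem_ker, map_mul]
    exact hta
  have hu : IsUnit (X.presheaf.germ V _ hyV t') := by
    apply (isUnit_map_iff (f.stalkMap y).hom _).mp
    have h1 := IsLocalization.map_units (Z.presheaf.stalk y)
      (⟨_, ht⟩ : (hW.primeIdealOf ⟨y, hyV⟩).asIdeal.primeCompl)
    erw [Scheme.Hom.germ_stalkMap_apply]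
    exact h1
  refine hu.smul_eq_zero.mp ?_
  rw [← hz, smul_smul, IsLocalization.mk'_eq_mul_mk'_one,
    ← mul_assoc, mul_comm _ (IsLocalization.mk' _ 1 s), mul_smul,
    show algebraMap Γ(X, V) (X.presheaf.stalk (f y)) a = X.presheaf.germ V _ hyV a from rfl,
    ← map_mul, ← WeakAss.germ_smul]
  rw [show (t' * a) • z = 0 from hk ⟨V, hVA⟩ _ hmem z, map_zero, smul_zero]

/-- The unit is an isomorphism on every module killed by the ideal. -/
theorem isIso_unit_of_killed (F : X.Modules) (hk : ClSub.KilledByIdeal f.ker F) :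
    IsIso ((Scheme.Modules.pullbackPushforwardAdjunction f).unit.app F) := by
  refine (OX.isIso_iff _).2 fun x ↦ (ConcreteCategory.isIso_iff_bijective _).2 ?_
  by_cases hx : x ∈ Set.range f
  · obtain ⟨y, rfl⟩ := hx
    have hb := QCoh.extendScalars_unit_bijective (f.stalkMap y).hom (f.stalkMap_surjective y)
      ((OX.stalk (f y)).obj F) (fun r hr m ↦ smul_eq_zero_of_killed f F hk y r hr m)
    rw [← QCoh.unit_stalk_comp f y F] at hb
    have h2 : Function.Bijective
        ((QCoh.pushStalkHom f y ((Scheme.Modules.pullback f).obj F)) ≫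
          (ModuleCat.restrictScalars (f.stalkMap y).hom).map
            ((QCoh.stalkPullbackIso f y).hom.app F)).hom :=
      ((ConcreteCategory.isIso_iff_bijective ((ModuleCat.restrictScalars (f.stalkMap y).hom).map
        ((QCoh.stalkPullbackIso f y).hom.app F))).1 inferInstance).comp
        (QCoh.pushStalkHom_bijective f y _ f.isClosedEmbedding.isInducing)
    exact (Function.Bijective.of_comp_iff' h2 _).1 hb
  · have h₁ : Subsingleton ((OX.stalk x).obj F) :=
      not_not.1 fun h ↦ hx (QCoh.support_subset_range f F hk h)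
    have h₂ : Subsingleton ((OX.stalk x).obj
        ((Scheme.Modules.pushforward f).obj ((Scheme.Modules.pullback f).obj F))) :=
      not_not.1 fun h ↦ hx (QCoh.support_pushforward_subset_range f _ h)
    exact ⟨fun _ _ _ ↦ @Subsingleton.elim _ h₁ _ _, fun b ↦ ⟨0, @Subsingleton.elim _ h₂ _ _⟩⟩

/-- A direct image is killed by the ideal. -/
theorem killedByIdeal_push (G : Z.Modules) :
    ClSub.KilledByIdeal f.ker ((Scheme.Modules.pushforward f).obj G) := by
  intro U a ha m
  rw [Scheme.Hom.ker_apply, RingHom.mem_ker] at ha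
  change (f.app U.1).hom a • (show Γ(G, f ⁻¹ᵁ U.1) from m) = 0
  rw [ha, zero_smul]

theorem killedByIdeal_of_mono {M N : X.Modules} (g : M ⟶ N) [Mono g] (hN : ClSub.KilledByIdeal f.ker N) :
    ClSub.KilledByIdeal f.ker M := fun U a ha m =>
  Cohom.app_injective_of_mono g U.1 (((QCoh.appLinear g U.1).map_smul a m).trans
    ((hN U a ha _).trans (map_zero _).symm))

variable [Dual3.HasHomO f]

/-- A map from a module killed by the ideal factors through the counit. -/
theorem exists_fac {M F : X.Modules} (hM : ClSub.KilledByIdeal f.ker M) (φ : M ⟶ F) :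
    ∃ g : (Scheme.Modules.pullback f).obj M ⟶ (Dual3.homO f).obj F,
      (Scheme.Modules.pullbackPushforwardAdjunction f).unit.app M ≫
        (Scheme.Modules.pushforward f).map g ≫ (Dual3.homOAdj f).counit.app F = φ := by
  haveI := isIso_unit_of_killed f M hM
  let η := (Scheme.Modules.pullbackPushforwardAdjunction f).unit.app M
  refine ⟨(Dual3.homOAdj f).homEquiv _ _ (inv η ≫ φ), ?_⟩
  exact (congrArg (η ≫ ·) (((Dual3.homOAdj f).homEquiv_counit _ _ _).symm.trans
    (((Dual3.homOAdj f).homEquiv _ _).symm_apply_apply _))).trans (IsIso.hom_inv_id_assoc η φ)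

/-- The counit is a monomorphism. -/
theorem mono_counit (F : X.Modules) : Mono ((Dual3.homOAdj f).counit.app F) := by
  let ε := (Dual3.homOAdj f).counit.app F
  haveI := isIso_unit_of_killed f _ (killedByIdeal_of_mono f (kernel.ι ε) (killedByIdeal_push f _))
  refine Preadditive.mono_of_kernel_zero ?_
  let adj := Scheme.Modules.pullbackPushforwardAdjunction f
  let g := (adj.homEquiv _ _).symm (kernel.ι ε)
  have hg : adj.unit.app _ ≫ (Scheme.Modules.pushforward f).map g = kernel.ι ε :=
    (adj.homEquiv_unit _ _ _).symm.trans ((adj.homEquiv _ _).apply_symm_apply _)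
  have h0 : (Scheme.Modules.pushforward f).map g ≫ ε = 0 := by
    rw [← cancel_epi (adj.unit.app (kernel ε)), ← Category.assoc, hg, kernel.condition, comp_zero]
  have hg0 : g = 0 := by
    apply ((Dual3.homOAdj f).homEquiv _ _).symm.injective
    rw [(Dual3.homOAdj f).homEquiv_counit, (Dual3.homOAdj f).homEquiv_counit, h0, Functor.map_zero, zero_comp]
  rw [← hg, hg0, Functor.map_zero, comp_zero]

/-- The sections of the counit over an affine open: exactly those killed by the ideal. -/
theorem sections_counit (F : X.Modules) (U : X.affineOpens) :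
    Function.Injective (((Dual3.homOAdj f).counit.app F).app U.1) ∧
      ∀ s : Γ(F, U.1), (∃ t, ((Dual3.homOAdj f).counit.app F).app U.1 t = s) ↔
        ∀ a ∈ f.ker.ideal U, a • s = 0 := by
  haveI := mono_counit f F
  let ε := (Dual3.homOAdj f).counit.app F
  refine ⟨Cohom.app_injective_of_mono _ U.1, fun s => ⟨?_, fun h => ?_⟩⟩
  · rintro ⟨t, rfl⟩ a ha
    exact ((QCoh.appLinear ε U.1).map_smul a t).symm.trans
      ((congrArg _ (killedByIdeal_push f _ U a ha t)).trans (map_zero _))
  · let P := QCoh.killed F f.ker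
    obtain ⟨g, hg⟩ := exists_fac f (QCoh.killed_killedByIdeal F f.ker) P.ι
    have hs : s ∈ P.sec U.1 := (QCoh.killed_mem_iff F f.ker U s).2 h
    refine ⟨((Scheme.Modules.pullbackPushforwardAdjunction f).unit.app P.obj ≫
      (Scheme.Modules.pushforward f).map g).app U.1 (P.lift s hs), ?_⟩
    rw [← ConcreteCategory.comp_apply, ← Scheme.Modules.Hom.comp_app, Category.assoc, hg]
    exact P.ι_app_lift s hs

end GrothLib.ClosedPush22
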